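import Cfsg.Agent.H77.HN.Words
import Cfsg.Agent.H91.Th.Data.Table

/-!
The nine basic letters a, b, c, d, e, s, s⁻¹, t, t⁻¹ on 17199 points: the cosets in the group
generated by a, ..., t of its intersection with the conjugate by the further generator u.
-/

set_option autoImplicit false

namespace H91.Th

/-- the packed column of a basic letter -/
noncomputable def colSel (l : ℕ) : ℕ :=
  bif Nat.blt l 4 then
    (bif Nat.blt l 2 then (bif Nat.beq l 0 then Data.tab0 else Data.tab1)
    else (bif Nat.beq l 2 then Data.tab2 else Data.tab3))
  else
    (bif Nat.blt l 6 then (bif Nat.beq l 4 then Data.tab4 else Data.tab5)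
    else (bif Nat.beq l 6 then Data.tab6 else (bif Nat.beq l 7 then Data.tab7 else Data.tab8)))

/-- image of a point under a basic letter (the identity for `9 ≤ l`) -/
noncomputable def T9 (l p : ℕ) : ℕ :=
  bif Nat.blt l 9 then
    H77.HN.frc p fun p => Nat.land (Nat.shiftRight (colSel l) (15 * p)) 32767
  else p

end H91.Th
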