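import Cfsg.Agent.H91.Th.DC.Cert
import Cfsg.Agent.H91.Th.Table
import Cfsg.Agent.H91.Th.Data.Words
import Cfsg.Agent.H91.Th.Data.Edges
import Cfsg.Agent.H91.Th.Data.Rels
import Cfsg.Agent.H91.Th.Data.Tree0
import Cfsg.Agent.H91.Th.Data.Tree1
import Cfsg.Agent.H91.Th.Data.Tree2
import Cfsg.Agent.H91.Th.Data.Tree3
import Cfsg.Agent.H91.Th.Data.Tree4
import Cfsg.Agent.H91.Th.Data.Tree5
import Cfsg.Agent.H91.Th.Data.Tree6
import Cfsg.Agent.H91.Th.Data.Tree7
import Cfsg.Agent.H91.Th.Data.Tree8
import Cfsg.Agent.H91.Th.Data.Tree9
import Cfsg.Agent.H91.Th.Data.Tree10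

/-!
The certificate of the double coset enumeration of the Thompson group over the subgroup generated
by a, b, c, d, e, s, t.

Letters: 0..8 are a, b, c, d, e, s, s⁻¹, t, t⁻¹; 9..15 generate the stabiliser of the point 0 and
16..22 are their conjugates by u; the others generate stabilisers of orbits.
-/

set_option autoImplicit false

namespace H91.Th

open H77.HN (runK unpack)

/-- a packed word of a deduction -/
def wd (c : ℕ) : List ℕ := unpack c

/-- image of a point under a letter -/
noncomputable def T (l p : ℕ) : ℕ :=
  bif Nat.blt l 9 then T9 l p else runK T9 (Data.wordOf l) p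

/-- field of a packed table -/
noncomputable def fld (v bits k : ℕ) : ℕ := Nat.land (Nat.shiftRight v (bits * k)) (2 ^ bits - 1)

/-- the tree of an orbit -/
noncomputable def treeSel (i : ℕ) : BT :=
  (bif Nat.blt i 5 then (bif Nat.blt i 2 then (bif Nat.blt i 1 then Data.tree0 else Data.tree1) else (bif Nat.blt i 3 then Data.tree2 else (bif Nat.blt i 4 then Data.tree3 else Data.tree4))) else (bif Nat.blt i 8 then (bif Nat.blt i 6 then Data.tree5 else (bif Nat.blt i 7 then Data.tree6 else Data.tree7)) else (bif Nat.blt i 9 then Data.tree8 else (bif Nat.blt i 10 then Data.tree9 else Data.tree10))))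

/-- the packed entry of a point in a tree: edge, parent, letter, depth -/
noncomputable def entry (i c : ℕ) : ℕ := (treeSel i).field 40 256 c

/-- a word of an edge table -/
def edgeWord (tab : List (List ℕ)) (k : ℕ) : List ℕ := unpack ((tab.getD (k / 64) []).getD (k % 64) 0)

/-- the data -/
noncomputable def cert : DC.Cert where
  T := T
  B := Data.base
  np := 17199
  r := 11
  ne := Data.numEdges
  sg i := Data.sgTab.getD i []
  hl := [9, 10, 11, 12, 13, 14, 15]
  phi l := l + 7
  orb i c := entry i c % 8192
  par i c := entry i c / 8192 % 32768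
  plet i c := entry i c / 268435456 % 64
  dep i c := entry i c / 17179869184
  src k := fld Data.srcTab 4 k
  dst k := fld Data.dstTab 4 k
  nw k := edgeWord Data.nwTab k
  mw k := edgeWord Data.mwTab k
  root k := fld Data.rootTab 15 k
  rels := Data.relTab

end H91.Th
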