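import Cfsg.Agent.H91.Th.Check.Deds0
import Cfsg.Agent.H91.Th.Check.Deds1
import Cfsg.Agent.H91.Th.Check.Deds2
import Cfsg.Agent.H91.Th.Check.Deds3
import Cfsg.Agent.H91.Th.Check.Deds4
import Cfsg.Agent.H91.Th.Check.Deds5
import Cfsg.Agent.H91.Th.Check.Deds6
import Cfsg.Agent.H91.Th.Check.Deds7
import Cfsg.Agent.H91.Th.Check.Deds8
import Cfsg.Agent.H91.Th.Check.Deds9
import Cfsg.Agent.H91.Th.Check.Deds10
import Cfsg.Agent.H91.Th.Check.Deds11
import Cfsg.Agent.H91.Th.Check.Tree0
import Cfsg.Agent.H91.Th.Check.Tree1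
import Cfsg.Agent.H91.Th.Check.Tree2
import Cfsg.Agent.H91.Th.Check.Tree3
import Cfsg.Agent.H91.Th.Check.Tree4
import Cfsg.Agent.H91.Th.Check.Tree5
import Cfsg.Agent.H91.Th.Check.Tree6
import Cfsg.Agent.H91.Th.Check.Tree7
import Cfsg.Agent.H91.Th.Check.Tree8
import Cfsg.Agent.H91.Th.Check.Tree9
import Cfsg.Agent.H91.Th.Check.Tree10
import Cfsg.Agent.H91.Th.Check.Levels
import Cfsg.Agent.H91.Th.Check.Point
import Cfsg.Agent.H91.Th.Check.Frame

/-! All checks of the certificate. -/

set_option autoImplicit false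
set_option maxRecDepth 100000

namespace H91.Th

open H77.HN (allBelow_spec)

theorem tree_all : ∀ i < cert.r, ∀ c < cert.np, cert.treeEntry i c = true := by
  intro i hi c hc
  have hi' : i < 11 := hi
  have hc' : c < 0 + 17199 := by simpa using (show c < 17199 from hc)
  interval_cases i
  · exact allBelow_spec tree0_ok c (Nat.zero_le _) hc'
  · exact allBelow_spec tree1_ok c (Nat.zero_le _) hc'
  · exact allBelow_spec tree2_ok c (Nat.zero_le _) hc'
  · exact allBelow_spec tree3_ok c (Nat.zero_le _) hc'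
  · exact allBelow_spec tree4_ok c (Nat.zero_le _) hc'
  · exact allBelow_spec tree5_ok c (Nat.zero_le _) hc'
  · exact allBelow_spec tree6_ok c (Nat.zero_le _) hc'
  · exact allBelow_spec tree7_ok c (Nat.zero_le _) hc'
  · exact allBelow_spec tree8_ok c (Nat.zero_le _) hc'
  · exact allBelow_spec tree9_ok c (Nat.zero_le _) hc'
  · exact allBelow_spec tree10_ok c (Nat.zero_le _) hc'

theorem roots_ok : ∀ k < cert.ne, cert.rootOne k = true := fun k hk =>
  allBelow_spec roots_all k (Nat.zero_le _) (by simpa using (show k < Data.numEdges from hk))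

end H91.Th
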