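import Cfsg.Agent.H93.Th.Rels
import Cfsg.Agent.H91.Th.Data.Rels

/-!
The relator paths of the certificate are trivial in the presented Thompson group: each is a
rotation of one of the twelve relators with `u`, of one of the seven twist relations, or of the
trivial relation, or of an inverse of one of these.
-/

set_option autoImplicit false
set_option maxRecDepth 100000

namespace H91.Th

open H77.HN (evw)
open H93.Th (code urels urels_one im)

/-- the inverse of a code -/
def flipCode (c : ℕ) : ℕ :=
  if c = 0 then 1 else if c = 1 then 0 else if c = 7 then 8 else if c = 8 then 7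
  else if c = 9 then 10 else if c = 10 then 9 else c

theorem code_flip (c : ℕ) : code (flipCode c) = (code c)⁻¹ := by
  match c with
  | 0 => simp [flipCode, code]
  | 1 => simp [flipCode, code]
  | 2 => simp [flipCode, code, H93.Th.inv_a]
  | 3 => simp [flipCode, code, H93.Th.inv_b]
  | 4 => simp [flipCode, code, H93.Th.inv_c]
  | 5 => simp [flipCode, code, H93.Th.inv_d]
  | 6 => simp [flipCode, code, H93.Th.inv_e]
  | 7 => simp [flipCode, code]
  | 8 => simp [flipCode, code]
  | 9 => simp [flipCode, code]
  | 10 => simp [flipCode, code]
  | k + 11 => simp [flipCode, code]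

theorem prod_flip (w : List ℕ) :
    ((w.reverse.map flipCode).map code).prod = ((w.map code).prod)⁻¹ := by
  induction w with
  | nil => simp
  | cons c w ih =>
    simp only [List.reverse_cons, List.map_append, List.map_cons, List.map_nil, List.prod_append,
      List.prod_cons, List.prod_nil, mul_one, ih, code_flip, mul_inv_rev]

theorem prod_rotate {w : List ℕ} (h : (w.map code).prod = 1) (n : ℕ) :
    ((w.drop n ++ w.take n).map code).prod = 1 := by
  rw [List.map_append, List.prod_append]
  have e : ((w.take n).map code).prod * ((w.drop n).map code).prod = 1 := by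
    rw [← List.prod_append, ← List.map_append, List.take_append_drop, h]
  rw [eq_inv_of_mul_eq_one_left e, mul_inv_cancel]

/-- a relator path is the stated rotation -/
def fromOrig (n : ℕ) : Bool :=
  let p := Data.relSrc.getD n (0, 0, false)
  let o := Data.origTab.getD p.1 []
  let o' := if p.2.2 then o.reverse.map flipCode else o
  decide (p.1 < 20) && decide (Data.relTab.getD n [] = o'.drop p.2.1 ++ o'.take p.2.1)

theorem fromOrig_all : (List.range Data.relTab.length).all fromOrig = true := by decide +kernel

theorem origTab_urels : (List.range 12).map (fun o => Data.origTab.getD o []) = urels := by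
  decide +kernel

/-- the relator paths are trivial, given the seven twist relations -/
theorem rels_one (htw : ∀ o, 12 ≤ o → o < 19 → ((Data.origTab.getD o []).map code).prod = 1) :
    ∀ w ∈ Data.relTab, (w.map code).prod = 1 := by
  intro w hw
  obtain ⟨n, hn, rfl⟩ := List.getElem_of_mem hw
  have h := List.all_eq_true.mp fromOrig_all n (List.mem_range.mpr hn)
  simp only [fromOrig, Bool.and_eq_true, decide_eq_true_eq] at h
  obtain ⟨ho, he⟩ := h
  rw [List.getD_eq_getElem _ _ hn] at he
  rw [he]
  have h1 : ((Data.origTab.getD (Data.relSrc.getD n (0, 0, false)).1 []).map code).prod = 1 := by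
    revert ho
    generalize (Data.relSrc.getD n (0, 0, false)).1 = o
    intro ho
    rcases Nat.lt_or_ge o 12 with h12 | h12
    · refine urels_one ?_
      rw [← origTab_urels]
      exact List.mem_map_of_mem (f := fun o => Data.origTab.getD o []) (List.mem_range.mpr h12)
    rcases Nat.lt_or_ge o 19 with h19 | h19
    · exact htw o h12 h19
    · obtain rfl : o = 19 := by omega
      simp [Data.origTab, code]
  refine prod_rotate ?_ _
  split
  · rw [prod_flip, h1, inv_one]
  · exact h1

end H91.Th
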