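import Cfsg.Agent.H77.HN.Chain

/-!
A transitive action, an upper bound for the order and a chain in the stabiliser of a point fix the
order, generate that stabiliser and give a base.
-/

set_option autoImplicit false

namespace H91.Th

open H77.HN (Rep chainCheck chainOrd fixList mem_fixList chain_le)

variable {N : Type*} [Group N] {gen : ℕ → N} {n : ℕ} {T : ℕ → ℕ → ℕ}

theorem exact_of_transitive (R : Rep gen n T) [Finite N] (hn : 0 < n) {letters : List ℕ}
    {ls : List (ℕ × List ℕ)} {M : ℕ} (htr : ∀ p : Fin n, ∃ g : N, R.φ g ⟨0, hn⟩ = p)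
    (hfix : letters.all (fun l => Nat.beq (T l 0) 0) = true) (hb : ∀ p ∈ ls, p.1 < n)
    (hch : chainCheck T letters [] ls = true) (hle : Nat.card N ≤ M)
    (hM : n * chainOrd ls = M) :
    Subgroup.closure (gen '' {l | l ∈ letters}) = R.fixPt ⟨0, hn⟩ ∧
      R.IsBase (0 :: ls.map Prod.fst) := by
  set K := Subgroup.closure (gen '' {l | l ∈ letters})
  have hKle : K ≤ R.fixPt ⟨0, hn⟩ := by
    rw [Subgroup.closure_le]
    rintro _ ⟨l, hl, rfl⟩
    have := List.all_eq_true.mp hfix l hl
    rw [Nat.beq_eq] at this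
    exact Fin.ext (by rw [R.spec]; exact this)
  choose g hg using htr
  have hinj : Function.Injective (fun p : Fin n × R.fixPt ⟨0, hn⟩ => g p.1 * p.2.1) := by
    intro p q hpq
    have hfixp : ∀ r : R.fixPt ⟨0, hn⟩, R.φ r.1 ⟨0, hn⟩ = ⟨0, hn⟩ := fun r => r.2
    have he : g p.1 * p.2.1 = g q.1 * q.2.1 := hpq
    have hij : p.1 = q.1 := by
      have := congrArg (fun x => R.φ x ⟨0, hn⟩) he
      simpa [map_mul, hfixp, hg] using this
    rw [hij] at he
    exact Prod.ext hij (Subtype.ext (mul_left_cancel he))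
  have h5 := Nat.card_le_card_of_injective _ hinj
  rw [Nat.card_prod, Nat.card_fin] at h5
  have h6 := chain_le R hb hch
  rw [List.nil_append] at h6
  change chainOrd ls * Nat.card (fixList R K (ls.map Prod.fst)) ≤ Nat.card (fixList R K []) at h6
  have hKnil : fixList R K [] = K := le_antisymm (fun x hx => (mem_fixList.mp hx).1)
    (fun x hx => mem_fixList.mpr ⟨hx, by simp⟩)
  rw [hKnil] at h6
  have hpos : 0 < Nat.card (fixList R K (ls.map Prod.fst)) := Nat.card_pos
  have h7 : Nat.card K ≤ Nat.card (R.fixPt ⟨0, hn⟩) := Subgroup.card_le_of_le hKle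
  have h8 : chainOrd ls ≤ chainOrd ls * Nat.card (fixList R K (ls.map Prod.fst)) :=
    Nat.le_mul_of_pos_right _ hpos
  have h9 : Nat.card (R.fixPt ⟨0, hn⟩) ≤ chainOrd ls := Nat.le_of_mul_le_mul_left (by omega) hn
  have hH : Nat.card (R.fixPt ⟨0, hn⟩) = chainOrd ls := by omega
  have hKeq : K = R.fixPt ⟨0, hn⟩ := Subgroup.eq_of_le_of_card_ge hKle (by omega)
  refine ⟨hKeq, fun b hb' => ?_, fun x hx => ?_⟩
  · rcases List.mem_cons.mp hb' with rfl | hb'
    · exact hn
    · obtain ⟨p, hp, rfl⟩ := List.mem_map.mp hb'; exact hb p hp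
  · have hpos' : 0 < chainOrd ls := hH ▸ Nat.card_pos
    have hone : Nat.card (fixList R K (ls.map Prod.fst)) = 1 := by
      have : chainOrd ls * Nat.card (fixList R K (ls.map Prod.fst)) ≤ chainOrd ls * 1 := by
        rw [mul_one]; omega
      have := Nat.le_of_mul_le_mul_left this hpos'
      omega
    have hxK : x ∈ fixList R K (ls.map Prod.fst) := mem_fixList.mpr
      ⟨hKeq ▸ hx ⟨0, hn⟩ (by simp), fun p hp => hx p (List.mem_cons_of_mem _ hp)⟩
    rw [(Subgroup.card_eq_one).mp hone, Subgroup.mem_bot] at hxK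
    exact hxK

end H91.Th
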