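import Cfsg.Agent.H22.Th.Pres
import Cfsg.Agent.H22.Th.Member
import Cfsg.Agent.H91.Th.DC.Bound
import Cfsg.Agent.H91.Th.Rel
import Cfsg.Agent.H91.Th.Check
import Cfsg.Agent.H91.Th.Transitive

/-!
The cosets of the subgroup generated by a, b, c, d, e, s, t in the presented Thompson group fall
into at most eleven orbits of that subgroup, with stabilisers of the known indices at most.
-/

set_option autoImplicit false
set_option maxRecDepth 100000

namespace H91.Th

open H22Th (P iota)
open H77.HN (evw Rep run runK chainOrd)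
open H93.Th (code im)

/-- the value in `P` of a letter of the certificate -/
noncomputable def pgen (l : ℕ) : P := evw H22Th.gen (Data.wordOf l)

theorem pgen_low {l : ℕ} (hl : l < 9) : pgen l = H22Th.gen l := by
  have h : ((List.range 9).all fun m => decide (Data.wordOf m = [m])) = true := by decide +kernel
  have := List.all_eq_true.mp h l (List.mem_range.mpr hl)
  simp only [decide_eq_true_eq] at this
  rw [pgen, this, H77.HN.evw_singleton]

theorem iota_gen (l : ℕ) : iota (H22Th.gen l) = (code (l + 2))⁻¹ := by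
  rw [H22Th.gen, map_inv]
  congr 1
  match l with
  | 0 => simp [H22Th.lett, code, H22Th.iota_x, H22Th.thImg]; rfl
  | 1 => simp [H22Th.lett, code, H22Th.iota_x, H22Th.thImg]; rfl
  | 2 => simp [H22Th.lett, code, H22Th.iota_x, H22Th.thImg]; rfl
  | 3 => simp [H22Th.lett, code, H22Th.iota_x, H22Th.thImg]; rfl
  | 4 => simp [H22Th.lett, code, H22Th.iota_x, H22Th.thImg]; rfl
  | 5 => simp [H22Th.lett, code, H22Th.iota_x, H22Th.thImg]; rfl
  | 6 => simp [H22Th.lett, code, H22Th.iota_x, H22Th.thImg]; rfl
  | 7 => simp [H22Th.lett, code, H22Th.iota_x, H22Th.thImg]; rfl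
  | 8 => simp [H22Th.lett, code, H22Th.iota_x, H22Th.thImg]; rfl
  | k + 9 => simp [H22Th.lett, code]

theorem iota_evw (w : List ℕ) :
    iota (evw H22Th.gen w) = ((w.map fun l => code (l + 2)).prod)⁻¹ := by
  induction w with
  | nil => simp
  | cons l w ih =>
    rw [H77.HN.evw_cons, map_mul, ih, iota_gen, List.map_cons, List.prod_cons, mul_inv_rev]

/-- the product in the presented group of a letter of the certificate -/
noncomputable def word (l : ℕ) : Cfsg.Spor.Th :=
  ((Data.wordList.getD l []).map fun x => code (x + 2)).prod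

theorem wordOf_list :
    ((List.range 23).all fun l => decide (Data.wordOf l = Data.wordList.getD l [])) = true := by
  decide +kernel

theorem iota_pgen {l : ℕ} (hl : l < 23) : iota (pgen l) = (word l)⁻¹ := by
  have := List.all_eq_true.mp wordOf_list l (List.mem_range.mpr hl)
  simp only [decide_eq_true_eq] at this
  rw [pgen, iota_evw, this, word]

/-- the twist relations as an equation of products -/
theorem twist_prod
    (hd : (im Cfsg.Spor.Th.u)⁻¹ * word 15 * im Cfsg.Spor.Th.u = word 22) :
    ∀ l, 9 ≤ l → l < 16 → word l * im Cfsg.Spor.Th.u = im Cfsg.Spor.Th.u * word (l + 7) := by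
  have key : ∀ h h' : Cfsg.Spor.Th, (im Cfsg.Spor.Th.u)⁻¹ * h * im Cfsg.Spor.Th.u = h' →
      h * im Cfsg.Spor.Th.u = im Cfsg.Spor.Th.u * h' := by
    intro h h' e
    rw [← e]
    group
  intro l h1 h2
  refine key _ _ ?_
  interval_cases l
  · simpa [word, Data.wordList, code] using H22Th.twist_a
  · simpa [word, Data.wordList, code] using H22Th.twist_c
  · simpa [word, Data.wordList, code] using H22Th.twist_e
  · simpa [word, Data.wordList, code] using H22Th.twist_t
  · simpa [word, Data.wordList, code, mul_assoc] using H22Th.twist_bacb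
  · simpa [word, Data.wordList, code, mul_assoc] using H22Th.twist_sseSS
  · exact hd

section

variable (R : Rep H22Th.gen 17199 T9)

include R in
theorem rep_spec (l : ℕ) (p : Fin 17199) : (R.φ (pgen l) p : ℕ) = T l p := by
  unfold T
  by_cases hl : Nat.blt l 9 = true
  · rw [hl, cond_true, pgen_low (by simpa [Nat.blt] using hl), R.spec]
  · rw [Bool.not_eq_true] at hl
    rw [hl, cond_false, H77.HN.runK_eq, pgen, R.evw_apply]

/-- the action through all letters -/
noncomputable def repAll : Rep pgen cert.np cert.T where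
  φ := R.φ
  spec := rep_spec R

variable [Finite P] (hP : Nat.card P ≤ 634023936)

omit [Finite P] in
include R in
theorem point_transitive (p : Fin cert.np) :
    ∃ g : P, (repAll R).φ g ⟨0, by decide⟩ = p := by
  suffices h : ∀ (d : ℕ) (c : Fin cert.np), cert.dep 0 c = d →
      ∃ g : P, (repAll R).φ g ⟨0, by decide⟩ = c from h _ p rfl
  intro d
  induction d with
  | zero =>
    intro c hd
    have h := tree_all 0 (by decide) c c.2
    have hc : (c : ℕ) < 17199 := c.2
    have ho := H77.HN.allBelow_spec orb_zero c (Nat.zero_le _) (by omega)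
    simp only [Nat.beq_eq] at ho
    simp only [DC.Cert.treeEntry, Bool.and_eq_true, hd, if_true, decide_eq_true_eq, ho] at h
    exact ⟨1, by rw [map_one, Equiv.Perm.one_apply]; exact Fin.ext (h.2 ▸ root_zero.symm)⟩
  | succ d ih =>
    intro c hd
    have h := tree_all 0 (by decide) c c.2
    simp only [DC.Cert.treeEntry, Bool.and_eq_true, hd, Nat.succ_ne_zero, if_false,
      decide_eq_true_eq, List.contains_iff_mem] at h
    obtain ⟨-, -, hp, hT, -, hdp⟩ := h
    obtain ⟨g, hg⟩ := ih ⟨cert.par 0 c, hp⟩ (by simpa using hdp)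
    refine ⟨pgen (cert.plet 0 c) * g, ?_⟩
    rw [map_mul, Equiv.Perm.mul_apply, hg]
    exact Fin.ext (by rw [(repAll R).spec]; exact hT)

include hP in
theorem point_facts : Subgroup.closure (pgen '' {l | l ∈ cert.hl}) =
      (repAll R).fixPt ⟨0, by decide⟩ ∧ (repAll R).IsBase cert.B := by
  obtain ⟨h3, h4, h5, h6, h7⟩ := levelsH_ok
  have hb : ∀ p ∈ Data.levelsH, p.1 < cert.np := fun p hp => by
    have := List.all_eq_true.mp h5 p hp
    show p.1 < 17199
    simpa [Nat.blt] using this
  obtain ⟨c2, c3⟩ := exact_of_transitive (repAll R) (show 0 < cert.np by decide)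
    (point_transitive R) h6 hb h3 hP (by rw [h4]; show 17199 * 36864 = 634023936; norm_num)
  exact ⟨c2, by rw [show cert.B = Data.base from rfl, ← h7]; exact c3⟩

/-- the certificate over the model -/
noncomputable def setting : DC.Setting P where
  D := cert
  gen := pgen
  R := repAll R
  hB := (point_facts R hP).2
  hnp := by decide
  hH := (point_facts R hP).1.ge
  hroots := roots_ok
  htree := tree_all

variable (hd : (im Cfsg.Spor.Th.u)⁻¹ * word 15 * im Cfsg.Spor.Th.u = word 22)

omit [Finite P] in
theorem closure_u_range :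
    Subgroup.closure (insert (im Cfsg.Spor.Th.u)⁻¹ (Set.range (iota : P →* Cfsg.Spor.Th))) = ⊤ := by
  rw [eq_top_iff, ← PresentedGroup.closure_range_of, Subgroup.closure_le]
  rintro _ ⟨g, rfl⟩
  have hmem : ∀ i, H22Th.thImg i ∈
      Subgroup.closure (insert (im Cfsg.Spor.Th.u)⁻¹ (Set.range (iota : P →* Cfsg.Spor.Th))) :=
    fun i => Subgroup.subset_closure (Set.mem_insert_of_mem _ ⟨H22Th.x i, H22Th.iota_x i⟩)
  cases g
  case u => exact inv_mem_iff.mp (Subgroup.subset_closure (Set.mem_insert _ _))
  all_goals first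
    | exact hmem 0 | exact hmem 1 | exact hmem 2 | exact hmem 3 | exact hmem 4 | exact hmem 5
    | exact hmem 6

omit [Finite P] in
include hd in
theorem twist_ok : ∀ l ∈ cert.hl, (im Cfsg.Spor.Th.u)⁻¹ * iota (pgen l) =
    iota (pgen (cert.phi l)) * (im Cfsg.Spor.Th.u)⁻¹ := by
  intro l hl
  have hl' : 9 ≤ l ∧ l < 16 := by
    have : l ∈ [9, 10, 11, 12, 13, 14, 15] := hl
    simp at this; omega
  rw [show cert.phi l = l + 7 from rfl, iota_pgen (by omega), iota_pgen (by omega), ← mul_inv_rev,
    ← mul_inv_rev, twist_prod hd l hl'.1 hl'.2]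

omit [Finite P] in
theorem relTab_small : (Data.relTab.all fun w => w.all fun c => decide (c < 11)) = true := by
  decide +kernel

omit [Finite P] in
theorem twist_orig : ((List.range 7).all fun t => decide (Data.origTab.getD (12 + t) [] =
    (Data.wordList.getD (9 + t) []).map (· + 2) ++
      0 :: ((Data.wordList.getD (16 + t) []).reverse.map fun x => flipCode (x + 2)) ++ [1])) = true := by
  decide +kernel

omit [Finite P] in
include hd in
theorem orig_twist : ∀ o, 12 ≤ o → o < 19 → ((Data.origTab.getD o []).map code).prod = 1 := by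
  intro o h1 h2
  obtain ⟨t, rfl⟩ : ∃ t, o = 12 + t := ⟨o - 12, by omega⟩
  have h := List.all_eq_true.mp twist_orig t (List.mem_range.mpr (by omega))
  simp only [decide_eq_true_eq] at h
  rw [h]
  have e1 : ∀ w : List ℕ, ((w.map (· + 2)).map code) = w.map fun x => code (x + 2) :=
    fun w => by rw [List.map_map]; rfl
  have e2 : ∀ w : List ℕ, ((w.reverse.map fun x => flipCode (x + 2)).map code).prod =
      ((w.map fun x => code (x + 2)).prod)⁻¹ := fun w => by
    rw [← e1, ← prod_flip, ← List.map_reverse]
    simp only [List.map_map, Function.comp_def]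
  have hw := twist_prod hd (9 + t) (by omega) (by omega)
  rw [show 9 + t + 7 = 16 + t by omega] at hw
  simp only [List.map_append, List.prod_append, List.map_cons, List.map_nil, List.prod_cons,
    List.prod_nil, mul_one, e1, e2, show code 0 = im Cfsg.Spor.Th.u from rfl,
    show code 1 = (im Cfsg.Spor.Th.u)⁻¹ from rfl]
  simp only [word] at hw
  rw [← mul_assoc, hw]
  group

/-- the presented group over the model -/
noncomputable def amalgam : DC.Amalgam (setting R hP) Cfsg.Spor.Th where
  ι := iota
  gt := (im Cfsg.Spor.Th.u)⁻¹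
  twist := twist_ok hd
  gen_top := closure_u_range
  rels := by
    intro w hw
    have hsmall := List.all_eq_true.mp relTab_small w hw
    simp only [List.all_eq_true, decide_eq_true_eq] at hsmall
    have key : ∀ u : List ℕ, (∀ c ∈ u, c < 11) →
        evw (fun c => if c = 0 then (im Cfsg.Spor.Th.u)⁻¹
          else if c = 1 then ((im Cfsg.Spor.Th.u)⁻¹)⁻¹ else iota (pgen (c - 2))) u =
          evw (fun c => (code c)⁻¹) u := by
      intro u
      induction u with
      | nil => intro _; rfl
      | cons c u ih =>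
        intro hu
        simp only [List.mem_cons, forall_eq_or_imp] at hu
        rw [H77.HN.evw_cons, H77.HN.evw_cons, ih hu.2]
        congr 1
        match c, hu.1 with
        | 0, _ => simp [code]
        | 1, _ => simp [code]
        | n + 2, hn =>
          rw [if_neg (by omega), if_neg (by omega), Nat.add_sub_cancel, pgen_low (by omega),
            iota_gen]
    show evw (fun c => if c = 0 then (im Cfsg.Spor.Th.u)⁻¹
      else if c = 1 then ((im Cfsg.Spor.Th.u)⁻¹)⁻¹ else iota (pgen (c - 2))) w = 1
    rw [key w hsmall, H93.Th.evw_inv_code, rels_one (orig_twist hd) w hw, inv_one]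

/-- the deductions hold -/
theorem valid : (amalgam R hP hd).Valid treeList Data.known12 := by
  have hK : (amalgam R hP hd).Valid treeList Data.known0 := by
    rw [start_ok]
    exact (amalgam R hP hd).init_valid _ _ tree_shape
  have step := fun {K K' : DC.Known} {ds : List DC.Ded} (hV : (amalgam R hP hd).Valid treeList K)
    (h : cert.dedAll K ds = some K') => (amalgam R hP hd).dedAll_sound ds hV h
  exact step (step (step (step (step (step (step (step (step (step (step (step hK deds0_ok)
    deds1_ok) deds2_ok) deds3_ok) deds4_ok) deds5_ok) deds6_ok) deds7_ok) deds8_ok) deds9_ok)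
    deds10_ok) deds11_ok

include hP in
theorem stab_index {i ord : ℕ} {ls : List (ℕ × List ℕ)}
    (h : H77.HN.chainCheck cert.T (cert.sg i) [] ls = true ∧ chainOrd ls = ord ∧
      ls.all (fun p => Nat.blt p.1 17199) = true) :
    ((setting R hP).stab i).index * ord ≤ 634023936 := by
  obtain ⟨h1, rfl, h3⟩ := h
  have hb : ∀ p ∈ ls, p.1 < cert.np := fun p hp => by
    have := List.all_eq_true.mp h3 p hp
    show p.1 < 17199
    simpa [Nat.blt] using this
  have h6 := H77.HN.chain_le (repAll R) hb h1
  have h7 : chainOrd ls ≤ Nat.card ((setting R hP).stab i) := by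
    refine le_trans (le_trans ?_ h6) (Subgroup.card_le_of_le fun x hx => (H77.HN.mem_fixList.mp hx).1)
    exact Nat.le_mul_of_pos_right _ Nat.card_pos
  calc ((setting R hP).stab i).index * chainOrd ls
      ≤ ((setting R hP).stab i).index * Nat.card ((setting R hP).stab i) := Nat.mul_le_mul_left _ h7
    _ = Nat.card P := by rw [Subgroup.index_mul_card]
    _ ≤ _ := hP

include hP in
theorem stab_zero : (setting R hP).stab 0 = ⊤ := by
  rw [eq_top_iff, ← H22Th.closure_gen, Subgroup.closure_le]
  rintro _ ⟨l, hl, rfl⟩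
  have hl' : l < 9 := hl
  have hm : ∀ m ∈ ([0, 1, 2, 3, 4, 5, 7] : List ℕ), H22Th.gen m ∈ (setting R hP).stab 0 :=
    fun m hm => by
      have hm9 : m < 9 := by simp at hm; omega
      exact Subgroup.subset_closure ⟨m, hm, pgen_low hm9⟩
  show H22Th.gen l ∈ (setting R hP).stab 0
  interval_cases l
  · exact hm 0 (by simp)
  · exact hm 1 (by simp)
  · exact hm 2 (by simp)
  · exact hm 3 (by simp)
  · exact hm 4 (by simp)
  · exact hm 5 (by simp)
  · rw [show (6 : ℕ) = H22Th.iv 5 by simp [H22Th.iv], H22Th.gen_iv]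
    exact inv_mem (hm 5 (by simp))
  · exact hm 7 (by simp)
  · rw [show (8 : ℕ) = H22Th.iv 7 by simp [H22Th.iv], H22Th.gen_iv]
    exact inv_mem (hm 7 (by simp))

/-- position of the eleven suborbits, by increasing length, among the orbits of the certificate -/
def orbitNo (i : Fin 11) : ℕ := [0, 1, 2, 10, 3, 4, 8, 7, 9, 5, 6].getD i 0

/-- the lengths of the eleven suborbits -/
def orbitLen (i : Fin 11) : ℕ :=
  [1, 17199, 45864, 179712, 1304576, 2201472, 5031936, 8128512, 8805888, 11741184, 105670656].getD i 0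

theorem orbitNo_surj : ∀ j < 11, ∃ i : Fin 11, orbitNo i = j := by decide

/-- another word for the last twist image -/
def dcdImage : List ℕ := [1, 0, 2, 1, 3, 2, 3, 4, 3, 2, 3, 1, 2, 3, 0, 1, 2, 3]

theorem dcdImage_agree :
    H77.HN.agree T9 Data.base (Data.wordList.getD 22 []) dcdImage = true := by decide +kernel

include R hP in
theorem word22 : word 22 =
    im Cfsg.Spor.Th.b * im Cfsg.Spor.Th.a * im Cfsg.Spor.Th.c * im Cfsg.Spor.Th.b *
      im Cfsg.Spor.Th.d * im Cfsg.Spor.Th.c * im Cfsg.Spor.Th.d * im Cfsg.Spor.Th.e *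
      im Cfsg.Spor.Th.d * im Cfsg.Spor.Th.c * im Cfsg.Spor.Th.d * im Cfsg.Spor.Th.b *
      im Cfsg.Spor.Th.c * im Cfsg.Spor.Th.d * im Cfsg.Spor.Th.a * im Cfsg.Spor.Th.b *
      im Cfsg.Spor.Th.c * im Cfsg.Spor.Th.d := by
  have hB := (point_facts R hP).2
  have e : evw H22Th.gen (Data.wordList.getD 22 []) = evw H22Th.gen dcdImage :=
    R.evw_eq_of_agree hB dcdImage_agree
  have e' := congrArg (fun z => (iota z)⁻¹) e
  simp only [iota_evw, inv_inv] at e'
  rw [word, e']
  simp [dcdImage, code, mul_assoc]

include R hP in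
/-- the eleven base cosets: fixed by subgroups of bounded index, and they reach everything -/
theorem orbits (hdcd : (im Cfsg.Spor.Th.u)⁻¹ *
      (im Cfsg.Spor.Th.d * im Cfsg.Spor.Th.c * im Cfsg.Spor.Th.d) * im Cfsg.Spor.Th.u =
    im Cfsg.Spor.Th.b * im Cfsg.Spor.Th.a * im Cfsg.Spor.Th.c * im Cfsg.Spor.Th.b *
      im Cfsg.Spor.Th.d * im Cfsg.Spor.Th.c * im Cfsg.Spor.Th.d * im Cfsg.Spor.Th.e *
      im Cfsg.Spor.Th.d * im Cfsg.Spor.Th.c * im Cfsg.Spor.Th.d * im Cfsg.Spor.Th.b *
      im Cfsg.Spor.Th.c * im Cfsg.Spor.Th.d * im Cfsg.Spor.Th.a * im Cfsg.Spor.Th.b *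
      im Cfsg.Spor.Th.c * im Cfsg.Spor.Th.d) :
    ∃ (q : Fin 11 → Cfsg.Spor.Th ⧸ iota.range) (St : Fin 11 → Subgroup P),
    (∀ i, ∀ g ∈ St i, iota g • q i = q i) ∧ (∀ i, (St i).index ≤ orbitLen i) ∧
      ∀ c, ∃ i, ∃ n : P, iota n • q i = c := by
  have hd : (im Cfsg.Spor.Th.u)⁻¹ * word 15 * im Cfsg.Spor.Th.u = word 22 := by
    rw [word22 R hP, ← hdcd]
    simp [word, Data.wordList, code, mul_assoc]
  have hV := valid R hP hd
  refine ⟨fun i => (amalgam R hP hd).q treeList (orbitNo i),
    fun i => (setting R hP).stab (orbitNo i), fun i g hg => ?_, fun i => ?_, fun c => ?_⟩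
  · have hi : orbitNo i < 11 := by
      clear hg
      revert i
      decide
    exact (amalgam R hP hd).stab_fix hV done_ok hi hg
  · have h1 := stab_index R hP levels1_ok
    have h2 := stab_index R hP levels2_ok
    have h3 := stab_index R hP levels3_ok
    have h4 := stab_index R hP levels4_ok
    have h5 := stab_index R hP levels5_ok
    have h6 := stab_index R hP levels6_ok
    have h7 := stab_index R hP levels7_ok
    have h8 := stab_index R hP levels8_ok
    have h9 := stab_index R hP levels9_ok
    have h10 := stab_index R hP levels10_ok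
    fin_cases i <;> simp only [orbitNo, orbitLen, List.getD_cons_zero, List.getD_cons_succ] <;>
      first
        | (rw [stab_zero R hP, Subgroup.index_top])
        | omega
  · obtain ⟨j, hj, n, hn⟩ := (amalgam R hP hd).reached_all hV done_ok (show 0 < 11 by norm_num) c
    obtain ⟨i, rfl⟩ := orbitNo_surj j hj
    exact ⟨i, n, hn⟩

end

end H91.Th
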