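import Mathlib

/-!
Binary search trees of packed blocks, for fast lookups in the kernel.
-/

set_option autoImplicit false

namespace H91.Th

/-- blocks at the leaves; a node sends the keys below its bound to the left -/
inductive BT where
  | leaf (v : ℕ)
  | node (m : ℕ) (l r : BT)

/-- the block of a key -/
noncomputable def BT.get (t : BT) (p : ℕ) : ℕ :=
  BT.rec (motive := fun _ => ℕ → ℕ) (fun v _ => v)
    (fun m _ _ gl gr q => bif Nat.blt q m then gl q else gr q) t p

/-- field `k` of width `bits` in blocks of `per` fields -/
noncomputable def BT.field (t : BT) (bits per k : ℕ) : ℕ :=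
  Nat.land (Nat.shiftRight (t.get k) (bits * (k % per))) (2 ^ bits - 1)

end H91.Th
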